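import Cfsg.Agent.GTwoType.Model
import Cfsg.Agent.Chev.GTwoOdd.Invol
import Cfsg.Agent.Known.G2Zorn.SylowGL
import Cfsg.Agent.SolvStruct.CrossCharDerived

/-!
# The Sylow 2-subgroups of `G₂(q)`, `q` odd, in the coordinates of the model

The centraliser of an involution is covered by pairs of `2 × 2` matrices of equal determinant;
with a torus element `k` whose quotient by its conjugate generates the 2-part of the norm one
torus, the model is realised by four explicit pairs.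
-/

set_option autoImplicit false
set_option linter.style.haveILetI false
set_option linter.unusedSectionVars false

namespace Cfsg.Lib.GTwoType.SylTwo

open Matrix
open Cfsg.Lib.GTwoOdd
open Cfsg.Lib.G2Zorn
open Cfsg.Lie

section Abstract

variable {H : Type*} [Group H] {n : ℕ} [NeZero n]

/-- The value of the map from the model. -/
def val (X Y R I : H) (q : Mdl n) : H :=
  X ^ q.x.val * Y ^ q.y.val * ((if q.s then R else 1) * (if q.e then I else 1))

theorem pow_val_add {X : H} (hX : X ^ n = 1) (x y : ZMod n) :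
    X ^ (x + y).val = X ^ x.val * X ^ y.val := by
  rw [ZMod.val_add, ← pow_add, ← pow_eq_pow_mod _ hX]

theorem pow_val_neg {X : H} (hX : X ^ n = 1) (x : ZMod n) : X ^ (-x).val = (X ^ x.val)⁻¹ :=
  eq_inv_of_mul_eq_one_left (by rw [← pow_val_add hX, neg_add_cancel, ZMod.val_zero, pow_zero])

/-- The map from the model given by four elements satisfying its relations. -/
theorem exists_hom {X Y R I : H} (hX : X ^ n = 1) (hY : Y ^ n = 1) (hXY : Commute X Y)
    (hRX : R * X = Y * R) (hRY : R * Y = X * R) (hIX : I * X = X⁻¹ * I) (hIY : I * Y = Y⁻¹ * I)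
    (hR : R * R = 1) (hI : I * I = 1) (hRI : I * R = R * I) :
    ∃ φ : Mdl n →* H, ∀ q, φ q = val X Y R I q := by
  set A : ZMod n → ZMod n → H := fun x y => X ^ x.val * Y ^ y.val with hA
  have hadd : ∀ x y x' y', A (x + x') (y + y') = A x y * A x' y' := by
    intro x y x' y'
    simp only [hA, pow_val_add hX, pow_val_add hY]
    rw [mul_assoc (X ^ x.val), ← mul_assoc (X ^ x'.val), (hXY.pow_pow x'.val y.val).eq]
    simp only [mul_assoc]
  have hRA : ∀ x y, R * A x y = A y x * R := by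
    intro x y
    have e1 : R * X ^ x.val = Y ^ x.val * R := (SemiconjBy.pow_right (show SemiconjBy R X Y from hRX) _).eq
    have e2 : R * Y ^ y.val = X ^ y.val * R := (SemiconjBy.pow_right (show SemiconjBy R Y X from hRY) _).eq
    simp only [hA]
    rw [← mul_assoc, e1, mul_assoc, e2, ← mul_assoc, (hXY.pow_pow y.val x.val).eq]
  have hIA : ∀ x y, I * A x y = A (-x) (-y) * I := by
    intro x y
    have e1 : I * X ^ x.val = (X⁻¹) ^ x.val * I := (SemiconjBy.pow_right (show SemiconjBy I X X⁻¹ from hIX) _).eq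
    have e2 : I * Y ^ y.val = (Y⁻¹) ^ y.val * I := (SemiconjBy.pow_right (show SemiconjBy I Y Y⁻¹ from hIY) _).eq
    simp only [hA, pow_val_neg hX, pow_val_neg hY, ← inv_pow]
    rw [← mul_assoc, e1, mul_assoc, e2, ← mul_assoc]
  have hmove : ∀ (g : Mdl n) (x y : ZMod n), ((if g.s then R else 1) * (if g.e then I else 1)) * A x y =
      A (Mdl.ax g x y) (Mdl.ax g y x) * ((if g.s then R else 1) * (if g.e then I else 1)) := by
    rintro ⟨a, b, s, e⟩ x y
    cases s <;> cases e <;> simp [Mdl.ax, Mdl.sg, hRA, hIA, mul_assoc]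
    rw [← mul_assoc R, hRA, mul_assoc]
  have hbits : ∀ s e s' e' : Bool, ((if s then R else 1) * (if e then I else 1)) *
      ((if s' then R else 1) * (if e' then I else 1)) =
        (if xor s s' then R else 1) * (if xor e e' then I else 1) := by
    have h1 : ∀ z, R * (R * z) = z := fun z => by rw [← mul_assoc, hR, one_mul]
    have h2 : ∀ z, I * (I * z) = z := fun z => by rw [← mul_assoc, hI, one_mul]
    have h3 : ∀ z, I * (R * z) = R * (I * z) := fun z => by rw [← mul_assoc, hRI, mul_assoc]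
    intro s e s' e'
    cases s <;> cases e <;> cases s' <;> cases e' <;> simp [mul_assoc, hR, hI, hRI, h1, h2, h3]
  refine ⟨MonoidHom.mk' (val X Y R I) fun g k => ?_, fun q => rfl⟩
  have h := hadd g.x g.y (Mdl.ax g k.x k.y) (Mdl.ax g k.y k.x)
  calc val X Y R I (g * k)
      = A (g.x + Mdl.ax g k.x k.y) (g.y + Mdl.ax g k.y k.x) *
          ((if xor g.s k.s then R else 1) * (if xor g.e k.e then I else 1)) := rfl
    _ = A g.x g.y * (A (Mdl.ax g k.x k.y) (Mdl.ax g k.y k.x) *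
          ((if g.s then R else 1) * (if g.e then I else 1))) *
            ((if k.s then R else 1) * (if k.e then I else 1)) := by
        rw [h, ← hbits]; simp only [mul_assoc]
    _ = _ := by rw [← hmove]; simp only [val, hA, mul_assoc]

end Abstract

variable {F : Type*} [Field F] [Fintype F]

local notation "GL₂" => GL (Fin 2) F
local notation "M₂" => Matrix (Fin 2) (Fin 2) F

/-- The scalar matrices. -/
def sc : Fˣ →* GL (Fin 2) F :=
  MonoidHom.mk' (fun a => glD a a) fun a b => Units.ext (by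
    ext i j; fin_cases i <;> fin_cases j <;> simp [glD, Matrix.mul_apply, Fin.sum_univ_two])

theorem sc_val (a : Fˣ) : (sc a : M₂) = !![(a : F), 0; 0, (a : F)] := rfl

theorem dl_val' (g : GL₂) : (dl g : F) = (g : M₂).det := Matrix.GeneralLinearGroup.val_det_apply g

theorem mul_sigma_sc {k : GL₂} (hk : k ∈ Ktor F) : k * G2Zorn.sigma k = sc (dl k) := by
  refine Units.ext ?_
  rw [mul_sigma hk, sc_val, dl_val']
  ext i j
  fin_cases i <;> fin_cases j <;> simp

theorem sigma_mul (a b : GL₂) : G2Zorn.sigma (a * b) = G2Zorn.sigma a * G2Zorn.sigma b := by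
  simp only [G2Zorn.sigma, mul_assoc]
  rw [← mul_assoc (G2Zorn.refl F) (G2Zorn.refl F), refl_sq, one_mul]

theorem sigma_sc (a : Fˣ) : G2Zorn.sigma (sc a) = (sc a : GL₂) := by
  rw [G2Zorn.sigma, show G2Zorn.refl F * sc a = sc a * G2Zorn.refl F from (glD_comm a _).symm, mul_assoc, refl_sq, mul_one]

theorem dl_refl : dl (G2Zorn.refl F) = -1 := Units.ext (by rw [dl_val', det_refl]; simp)

theorem sigma_eq_inv {w : GL₂} (hw : w ∈ Ktor F) (h : dl w = 1) : G2Zorn.sigma w = w⁻¹ := by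
  refine eq_inv_of_mul_eq_one_right ?_
  rw [mul_sigma_sc hw, h, map_one]

/-- The quarter turn. -/
def quarter (F : Type*) [Field F] : GL (Fin 2) F :=
  ⟨!![0, -1; 1, 0], !![0, 1; -1, 0], by ext i j; fin_cases i <;> fin_cases j <;> simp,
    by ext i j; fin_cases i <;> fin_cases j <;> simp⟩

theorem quarter_mem : quarter F ∈ K₂ F := by
  refine ⟨⟨by simp [quarter], by simp [quarter]⟩, 2, Units.ext ?_⟩
  ext i j; fin_cases i <;> fin_cases j <;> simp [quarter, pow_succ]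

theorem dl_quarter : dl (quarter F) = 1 := Units.ext (by rw [dl_val']; simp [quarter, Matrix.det_fin_two])

theorem quarter_sq : quarter F * quarter F = sc (-1) := Units.ext (by
  ext i j; fin_cases i <;> fin_cases j <;> simp [quarter, sc_val])

theorem sc_neg_ne (h2 : (2 : F) ≠ 0) : sc (-1) ≠ (1 : GL₂) := fun h => by
  have := congrArg (fun g : GL₂ => (g : M₂) 0 0) h
  simp [sc_val] at this
  exact h2 (by linear_combination (-1 : F) * this)

/-- The norm one part. -/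
def K₁ (F : Type*) [Field F] : Subgroup (GL (Fin 2) F) := K₂ F ⊓ (dl (F := F)).ker

theorem invol_K₁ (h2 : (2 : F) ≠ 0) {z : GL₂} (hz : z ∈ Ktor F) (h1 : dl z = 1) (hsq : z * z = 1) :
    z = 1 ∨ z = sc (-1) := by
  have hs : G2Zorn.sigma z = z := by rw [sigma_eq_inv hz h1, inv_eq_of_mul_eq_one_left hsq]
  have e : (G2Zorn.sigma z : M₂) 1 0 = (z : M₂) 1 0 := by rw [hs]
  simp [G2Zorn.sigma, G2Zorn.refl, Matrix.mul_apply, Fin.sum_univ_two, Matrix.vecMul, dotProduct] at e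
  have h10 : (z : M₂) 1 0 = 0 := mul_left_cancel₀ h2 (by linear_combination -e)
  have hd : (z : M₂).det = 1 := by rw [← dl_val', h1]; rfl
  rw [det_Ktor hz, h10] at hd
  rcases eq_or_eq_neg_of_sq_eq_sq ((z : M₂) 1 1) 1 (by linear_combination hd) with h | h
  · left; refine Units.ext (Matrix.ext fun i j => ?_)
    fin_cases i <;> fin_cases j <;> simp [hz.1, hz.2, h10, h]
  · right; refine Units.ext (Matrix.ext fun i j => ?_)
    fin_cases i <;> fin_cases j <;> simp [sc_val, hz.1, hz.2, h10, h]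

/-- A torus element whose quotient by its conjugate generates the norm one part. -/
theorem exists_gen (h2 : (2 : F) ≠ 0) :
    ∃ k ∈ K₂ F, ∃ a : ℕ, 2 ≤ a ∧ orderOf (k * (G2Zorn.sigma k)⁻¹) = 2 ^ a ∧ Nat.card (K₁ F) = 2 ^ a := by
  classical
  haveI : Fact (Nat.Prime 2) := ⟨Nat.prime_two⟩
  haveI : IsMulCommutative (K₁ F) := ⟨⟨fun a b => Subtype.ext (Ktor_comm (K₂_le a.2.1) (K₂_le b.2.1))⟩⟩
  have hp : IsPGroup 2 (K₁ F) := fun x => by
    obtain ⟨n, hn⟩ := x.2.1.2
    exact ⟨n, Subtype.ext hn⟩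
  have hcyc : IsCyclic (K₁ F) := by
    refine Cfsg.Lib.SolvStruct.CrossChar.isCyclic_of_omega hp fun S hS => ?_
    refine le_trans (Nat.card_le_card_of_injective
      (fun s : S => if ((s.1 : K₁ F) : GL₂) = 1 then true else false) ?_) (by simp)
    intro s t hst
    have key : ∀ u : S, ((u.1 : K₁ F) : GL₂) = 1 ∨ ((u.1 : K₁ F) : GL₂) = sc (-1) := fun u =>
      invol_K₁ h2 (K₂_le u.1.2.1) u.1.2.2 (by
        rw [← pow_two]; exact congrArg Subtype.val (hS u.1 u.2))
    refine Subtype.ext (Subtype.ext ?_)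
    rcases key s with e | e <;> rcases key t with e' | e' <;>
      simp [e, e', sc_neg_ne h2] at hst ⊢
  obtain ⟨w, hw⟩ := hcyc.exists_ofOrder_eq_natCard
  obtain ⟨a, ha⟩ := IsPGroup.iff_card.1 hp
  have hq4 : orderOf (⟨quarter F, quarter_mem, dl_quarter⟩ : K₁ F) = 4 :=
    orderOf_eq_prime_pow (p := 2) (n := 1)
      (fun h => sc_neg_ne h2 (by
        have := congrArg Subtype.val h
        rw [← quarter_sq, ← pow_two]; simpa using this))
      (Subtype.ext (by
        show quarter F ^ 4 = 1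
        rw [show (4 : ℕ) = 2 + 2 from rfl, pow_add, pow_two, quarter_sq, ← map_mul]; simp))
  have ha2 : 2 ≤ a := by
    have h := hq4 ▸ orderOf_dvd_natCard (⟨quarter F, quarter_mem, dl_quarter⟩ : K₁ F)
    rw [ha] at h
    exact (Nat.pow_dvd_pow_iff_le_right (by norm_num : 1 < 2)).1 (show 2 ^ 2 ∣ 2 ^ a from h)
  rw [ha] at hw
  set w0 : GL₂ := (w : GL₂) with hw0
  have hwK : w0 ∈ Ktor F := K₂_le w.2.1
  have how : orderOf w0 = 2 ^ a := by rw [hw0, Subgroup.orderOf_coe, hw]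
  have hwd : (w0 : M₂).det = 1 := by rw [← dl_val', show dl w0 = 1 from w.2.2]; rfl
  rw [det_Ktor hwK] at hwd
  have hdet : IsUnit (1 + (w0 : M₂)).det := by
    rw [isUnit_iff_ne_zero]
    intro h
    simp [Matrix.det_fin_two, hwK.1, hwK.2] at h
    have hx : (w0 : M₂) 1 1 = -1 := mul_left_cancel₀ h2 (by linear_combination h - hwd)
    have hy : (w0 : M₂) 1 0 = 0 := by
      refine pow_eq_zero_iff (n := 2) two_ne_zero |>.1 ?_
      rw [hx] at hwd; linear_combination hwd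
    have : w0 = sc (-1) := Units.ext (Matrix.ext fun i j => by
      fin_cases i <;> fin_cases j <;> simp [sc_val, hwK.1, hwK.2, hx, hy])
    have h2' : w0 ^ 2 = 1 := by rw [this, ← map_pow]; simp
    have := orderOf_dvd_of_pow_eq_one h2'
    rw [how] at this
    have := Nat.le_of_dvd (by norm_num) this
    have : 2 ^ 2 ≤ 2 ^ a := Nat.pow_le_pow_right (by norm_num) ha2
    omega
  set k₀ : GL₂ := mk2 (1 + (w0 : M₂)) hdet with hk₀
  have hk₀K : k₀ ∈ Ktor F := by constructor <;> simp [hk₀, hwK.1, hwK.2]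
  have hk₀w : k₀ = w0 * G2Zorn.sigma k₀ := by
    refine Units.ext ?_
    ext i j
    fin_cases i <;> fin_cases j <;>
      simp [hk₀, G2Zorn.sigma, G2Zorn.refl, Matrix.mul_apply, Fin.sum_univ_two, Matrix.vecMul, dotProduct, hwK.1, hwK.2] <;>
      first | ring1 | linear_combination hwd | linear_combination -hwd
  obtain ⟨N, m, hm, he⟩ := Nat.exists_eq_two_pow_mul_odd (orderOf_pos k₀).ne'
  have hkm : k₀ ^ m ∈ K₂ F :=
    ⟨pow_mem hk₀K m, N, by rw [← pow_mul, mul_comm, ← he, pow_orderOf_eq_one]⟩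
  refine ⟨k₀ ^ m, hkm, a, ha2, ?_, ha⟩
  have hc : Commute w0 (G2Zorn.sigma k₀) := Ktor_comm hwK (sigma_mem hk₀K)
  have hq : k₀ ^ m * (G2Zorn.sigma (k₀ ^ m))⁻¹ = w0 ^ m := by
    rw [← sigma_pow, mul_inv_eq_iff_eq_mul, ← hc.mul_pow, ← hk₀w]
  rw [hq, Nat.Coprime.orderOf_pow, how]
  rw [how]
  exact (Nat.coprime_two_left.2 hm).pow_left a

/-- The size of the norm one part. -/
theorem card_bound (h2 : (2 : F) ≠ 0) {a : ℕ} (ha : Nat.card (K₁ F) = 2 ^ a) :
    (Fintype.card F ^ 2 - 1).factorization 2 ≤ a + 1 := by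
  classical
  haveI : Fact (Nat.Prime 2) := ⟨Nat.prime_two⟩
  set q := Fintype.card F with hq
  have hodd : q % 2 = 1 := FiniteField.odd_card_of_char_ne_two fun h => h2 (by
    haveI := ringChar.of_eq h
    exact CharP.cast_eq_zero F 2)
  have hq1 : 1 < q := Fintype.one_lt_card
  let δ : ↥(K₂ F) →* Fˣ := (dl (F := F)).comp (K₂ F).subtype
  have hker : Nat.card δ.ker ≤ 2 ^ a := by
    rw [← ha]
    exact Nat.card_le_card_of_injective (fun x => (⟨x.1.1, x.1.2, x.2⟩ : K₁ F))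
      fun x y h => Subtype.ext (Subtype.ext (congrArg Subtype.val h :))
  have hp : IsPGroup 2 ↥(K₂ F) := fun x => by
    obtain ⟨n, hn⟩ := x.2.2
    exact ⟨n, Subtype.ext hn⟩
  obtain ⟨i, hi⟩ := IsPGroup.iff_card.1 (hp.of_surjective δ.rangeRestrict δ.rangeRestrict_surjective)
  have hdvd := Subgroup.card_subgroup_dvd_card δ.range
  rw [hi, Nat.card_units, Nat.card_eq_fintype_card, ← hq] at hdvd
  have hile : i ≤ (q - 1).factorization 2 :=
    (Nat.prime_two.pow_dvd_iff_le_factorization (by omega)).1 hdvd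
  have hcK : Nat.card (K₂ F) ≤ 2 ^ a * 2 ^ i := by
    rw [← Subgroup.card_mul_index δ.ker, Subgroup.index_ker, hi]
    exact Nat.mul_le_mul_right _ hker
  have h := card_S₂_eq h2
  rw [card_S₂ h2, card_GL2, ← hq, Nat.mul_assoc q] at h
  have hne : q ^ 2 - 1 ≠ 0 := by
    have : 2 ^ 2 ≤ q ^ 2 := Nat.pow_le_pow_left hq1 2
    omega
  rw [Nat.factorization_mul (by omega) (Nat.mul_ne_zero (by omega) hne),
    Nat.factorization_mul (by omega) hne, Finsupp.add_apply, Finsupp.add_apply,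
    Nat.factorization_eq_zero_of_not_dvd (show ¬ 2 ∣ q by omega), zero_add] at h
  have : 2 ^ ((q - 1).factorization 2 + (q ^ 2 - 1).factorization 2) ≤ 2 ^ (1 + (a + i)) := by
    rw [← h, pow_add, pow_add, pow_one]; exact Nat.mul_le_mul_left 2 hcK
  have := (Nat.pow_le_pow_iff_right (by norm_num : 1 < 2)).1 this
  omega

/-- The group map with values in `G₂`. -/
noncomputable def PhiG [NeZero (2 : F)] : ↥(Pairs F) →* ↥(chevG2.group F) :=
  Phi.codRestrict (chevG2.group F) fun p => (Phi_mem p).1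

theorem PhiG_eq_one_iff [NeZero (2 : F)] (p : ↥(Pairs F)) :
    PhiG p = 1 ↔ ∃ c : Fˣ, p.1 = (sc c, sc c) :=
  (Subtype.ext_iff.trans (Phi_eq_one_iff p) : _)

/-- The model inside `G₂(q)`. -/
theorem exists_embedding (hodd : Odd (Fintype.card F)) :
    ∃ (a : ℕ) (φ : Mdl (2 ^ a) →* ↥(chevG2.group F)), 2 ≤ a ∧ Function.Injective φ ∧
      (Fintype.card F ^ 2 - 1).factorization 2 ≤ a + 1 := by
  classical
  haveI := neZero_two hodd
  have h2 : (2 : F) ≠ 0 := NeZero.ne _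
  obtain ⟨k, hk, a, ha, hord, hcard⟩ := exists_gen h2
  obtain ⟨k₀, hk₀, hdk₀⟩ := exists_neg_one h2
  have hd₀ : dl k₀ = -1 := Units.ext (by rw [dl_val', hdk₀]; simp)
  have hkT := K₂_le hk
  have hk₀T := K₂_le hk₀
  have hθT : quarter F ∈ Ktor F := K₂_le quarter_mem
  have hsθ : G2Zorn.sigma (quarter F) = (quarter F)⁻¹ := sigma_eq_inv hθT dl_quarter
  have hdσ : ∀ x : GL₂, dl (G2Zorn.sigma x) = dl x := fun x => by
    simp only [G2Zorn.sigma, map_mul, dl_refl]
    rw [mul_comm (-1 : Fˣ), mul_assoc]; simp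
  -- the four pairs
  let pX : ↥(Pairs F) := ⟨(G2Zorn.sigma k, k), hdσ k⟩
  let pY : ↥(Pairs F) := ⟨(k, k), rfl⟩
  let pR : ↥(Pairs F) := ⟨(k₀ * G2Zorn.refl F, quarter F), by
    show dl (k₀ * G2Zorn.refl F) = dl (quarter F)
    rw [map_mul, hd₀, dl_refl, dl_quarter]; simp⟩
  let pI : ↥(Pairs F) := ⟨(k₀ * quarter F * G2Zorn.refl F, k₀ * G2Zorn.refl F), by
    show dl (k₀ * quarter F * G2Zorn.refl F) = dl (k₀ * G2Zorn.refl F)
    rw [map_mul, map_mul, dl_quarter, mul_one, map_mul]⟩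
  have hone : ∀ (p : ↥(Pairs F)) (c : Fˣ), p.1.1 = sc c → p.1.2 = sc c → PhiG p = 1 := fun p c h h' =>
    (PhiG_eq_one_iff p).2 ⟨c, Prod.ext h h'⟩
  have heq : ∀ (p p' : ↥(Pairs F)) (c : Fˣ), p.1.1 = sc c * p'.1.1 → p.1.2 = sc c * p'.1.2 →
      PhiG p = PhiG p' := fun p p' c h h' => by
    rw [← mul_inv_eq_one, ← map_inv, ← map_mul]
    refine hone _ c ?_ ?_
    · show p.1.1 * p'.1.1⁻¹ = sc c; rw [h, mul_inv_cancel_right]
    · show p.1.2 * p'.1.2⁻¹ = sc c; rw [h', mul_inv_cancel_right]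
  -- conjugation by an element of the outer coset
  have hrefl : ∀ u x : GL₂, u ∈ Ktor F → x ∈ Ktor F → u * G2Zorn.refl F * x = G2Zorn.sigma x * (u * G2Zorn.refl F) := by
    intro u x hu hx
    rw [mul_assoc, refl_mul, ← mul_assoc, Ktor_comm hu (sigma_mem hx), mul_assoc]
  have hfix : ∀ x : GL₂, x ∈ Ktor F → G2Zorn.sigma x = x → ∃ c : Fˣ, x = sc c := by
    intro x hx hs
    have e : (G2Zorn.sigma x : M₂) 1 0 = (x : M₂) 1 0 := by rw [hs]
    simp [G2Zorn.sigma, G2Zorn.refl, Matrix.mul_apply, Fin.sum_univ_two, Matrix.vecMul, dotProduct] at e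
    have h10 : (x : M₂) 1 0 = 0 := mul_left_cancel₀ h2 (by linear_combination -e)
    have h11 : (x : M₂) 1 1 ≠ 0 := fun h => (dl x).ne_zero (by rw [dl_val', det_Ktor hx, h, h10]; ring)
    refine ⟨Units.mk0 _ h11, Units.ext (Matrix.ext fun i j => ?_)⟩
    fin_cases i <;> fin_cases j <;> simp [sc_val, hx.1, hx.2, h10]
  have hgpow : ∀ j : ℕ, (G2Zorn.sigma k) ^ j = k ^ j ↔ 2 ^ a ∣ j := fun j => by
    rw [← hord, orderOf_dvd_iff_pow_eq_one,
      (show Commute k (G2Zorn.sigma k)⁻¹ from (Ktor_comm hkT (inv_mem (sigma_mem hkT)))).mul_pow, inv_pow,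
      mul_inv_eq_one]
    exact eq_comm
  obtain ⟨c₀, hc₀⟩ := hfix (k ^ 2 ^ a) (pow_mem hkT _) (by rw [← sigma_pow]; exact (hgpow _).2 dvd_rfl)
  have hX : PhiG pX ^ 2 ^ a = 1 := by
    rw [← map_pow]
    refine hone _ c₀ ?_ hc₀
    show G2Zorn.sigma k ^ 2 ^ a = sc c₀
    rw [(hgpow _).2 dvd_rfl, hc₀]
  have hY : PhiG pY ^ 2 ^ a = 1 := by
    rw [← map_pow]; exact hone _ c₀ hc₀ hc₀
  have hXY : Commute (PhiG pX) (PhiG pY) := (show Commute pX pY from Subtype.ext (Prod.ext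
    (Ktor_comm (sigma_mem hkT) hkT) rfl)).map PhiG
  have hRX : PhiG pR * PhiG pX = PhiG pY * PhiG pR := by
    rw [← map_mul, ← map_mul]
    refine congrArg PhiG (Subtype.ext (Prod.ext ?_ (Ktor_comm hθT hkT)))
    show k₀ * G2Zorn.refl F * G2Zorn.sigma k = k * (k₀ * G2Zorn.refl F)
    rw [hrefl _ _ hk₀T (sigma_mem hkT), sigma_sigma]
  have hRY : PhiG pR * PhiG pY = PhiG pX * PhiG pR := by
    rw [← map_mul, ← map_mul]
    exact congrArg PhiG (Subtype.ext (Prod.ext (hrefl _ _ hk₀T hkT) (Ktor_comm hθT hkT)))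
  have hkθ : k₀ * quarter F ∈ Ktor F := mul_mem hk₀T hθT
  have hscK : G2Zorn.sigma k * k = sc (dl k) := by rw [Ktor_comm (sigma_mem hkT) hkT, mul_sigma_sc hkT]
  have hIinv : ∀ p : ↥(Pairs F), p.1.1 ∈ Ktor F → p.1.2 ∈ Ktor F → G2Zorn.sigma p.1.1 * p.1.1 = sc (dl k) →
      G2Zorn.sigma p.1.2 * p.1.2 = sc (dl k) → PhiG pI * PhiG p = (PhiG p)⁻¹ * PhiG pI := by
    intro p h1 h1' h3 h3'
    rw [← map_mul, ← map_inv, ← map_mul]
    refine heq _ _ (dl k) ?_ ?_
    · show k₀ * quarter F * G2Zorn.refl F * p.1.1 = sc (dl k) * (p.1.1⁻¹ * (k₀ * quarter F * G2Zorn.refl F))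
      rw [hrefl _ _ hkθ h1, ← h3]; group
    · show k₀ * G2Zorn.refl F * p.1.2 = sc (dl k) * (p.1.2⁻¹ * (k₀ * G2Zorn.refl F))
      rw [hrefl _ _ hk₀T h1', ← h3']; group
  have hIX := hIinv pX (sigma_mem hkT) hkT (by
    show G2Zorn.sigma (G2Zorn.sigma k) * G2Zorn.sigma k = sc (dl k)
    rw [sigma_sigma, mul_sigma_sc hkT]) hscK
  have hIY := hIinv pY hkT hkT hscK hscK
  have hRR : PhiG pR * PhiG pR = 1 := by
    rw [← map_mul]
    refine hone _ (-1) ?_ quarter_sq
    show k₀ * G2Zorn.refl F * (k₀ * G2Zorn.refl F) = sc (-1)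
    rw [← mul_assoc, hrefl _ _ hk₀T hk₀T, mul_assoc, mul_assoc, refl_sq, mul_one,
      Ktor_comm (sigma_mem hk₀T) hk₀T, mul_sigma_sc hk₀T, hd₀]
  have hII : PhiG pI * PhiG pI = 1 := by
    rw [← map_mul]
    refine hone _ (-1) ?_ ?_
    · show k₀ * quarter F * G2Zorn.refl F * (k₀ * quarter F * G2Zorn.refl F) = sc (-1)
      rw [← mul_assoc, hrefl _ _ hkθ hkθ, mul_assoc, mul_assoc, refl_sq, mul_one,
        Ktor_comm (sigma_mem hkθ) hkθ, mul_sigma_sc hkθ, map_mul, hd₀, dl_quarter, mul_one]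
    · show k₀ * G2Zorn.refl F * (k₀ * G2Zorn.refl F) = sc (-1)
      rw [← mul_assoc, hrefl _ _ hk₀T hk₀T, mul_assoc, mul_assoc, refl_sq, mul_one,
        Ktor_comm (sigma_mem hk₀T) hk₀T, mul_sigma_sc hk₀T, hd₀]
  have hθinv : (quarter F)⁻¹ = sc (-1) * quarter F := by
    refine inv_eq_of_mul_eq_one_left ?_
    rw [mul_assoc, quarter_sq, ← map_mul]; simp
  have hRI : PhiG pI * PhiG pR = PhiG pR * PhiG pI := by
    rw [← map_mul, ← map_mul]
    refine heq _ _ (-1) ?_ ?_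
    · show k₀ * quarter F * G2Zorn.refl F * (k₀ * G2Zorn.refl F) = sc (-1) * (k₀ * G2Zorn.refl F * (k₀ * quarter F * G2Zorn.refl F))
      rw [← mul_assoc, hrefl _ _ hkθ hk₀T, ← mul_assoc (k₀ * G2Zorn.refl F), hrefl _ _ hk₀T hkθ, sigma_mul, hsθ, hθinv]
      simp only [mul_assoc, refl_sq, mul_one]
      have hm1 : (sc (-1) : GL₂) ∈ Ktor F := by constructor <;> simp [sc_val]
      rw [← mul_assoc (sc (-1)) (G2Zorn.sigma k₀), Ktor_comm hm1 (sigma_mem hk₀T), mul_assoc (G2Zorn.sigma k₀),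
        ← mul_assoc (sc (-1)) (sc (-1)), ← map_mul, Ktor_comm hk₀T hθT]
      simp
    · show k₀ * G2Zorn.refl F * quarter F = sc (-1) * (quarter F * (k₀ * G2Zorn.refl F))
      rw [hrefl _ _ hk₀T hθT, hsθ, hθinv, mul_assoc]
  obtain ⟨φ, hφ⟩ := exists_hom (n := 2 ^ a) hX hY hXY hRX hRY hIX hIY hRR hII hRI
  refine ⟨a, φ, ha, (injective_iff_map_eq_one φ).2 fun q hq => ?_, card_bound h2 hcard⟩
  rw [hφ, val] at hq
  obtain ⟨x, y, s, e⟩ := q
  set p : ↥(Pairs F) := pX ^ x.val * pY ^ y.val * ((if s then pR else 1) * (if e then pI else 1)) with hp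
  have hp1 : PhiG p = 1 := by
    rw [hp, map_mul, map_mul, map_mul, map_pow, map_pow, apply_ite PhiG, apply_ite PhiG, map_one]
    exact hq
  obtain ⟨c, hc⟩ := (PhiG_eq_one_iff p).1 hp1
  have hscT : (sc c : GL₂) ∈ Ktor F := by constructor <;> simp [sc_val]
  have hout : ∀ u v : GL₂, u ∈ Ktor F → v ∈ Ktor F → v * (u * G2Zorn.refl F) ≠ sc c := fun u v hu hv h =>
    refl_not_mem h2 (by
      rw [show G2Zorn.refl F = u⁻¹ * (v⁻¹ * sc c) by rw [← h]; group]
      exact mul_mem (inv_mem hu) (mul_mem (inv_mem hv) hscT))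
  have hc2 : k ^ x.val * k ^ y.val * ((if s then quarter F else 1) * (if e then k₀ * G2Zorn.refl F else 1)) = sc c := by
    have h := congrArg Prod.snd hc
    cases s <;> cases e <;> simpa [hp, pX, pY, pR, pI] using h
  have hc1 : G2Zorn.sigma k ^ x.val * k ^ y.val *
      ((if s then k₀ * G2Zorn.refl F else 1) * (if e then k₀ * quarter F * G2Zorn.refl F else 1)) = sc c := by
    have h := congrArg Prod.fst hc
    cases s <;> cases e <;> simpa [hp, pX, pY, pR, pI] using h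
  have hkk : ∀ i j : ℕ, k ^ i * k ^ j ∈ Ktor F := fun i j => mul_mem (pow_mem hkT i) (pow_mem hkT j)
  obtain rfl : e = false := by
    cases e
    · rfl
    · exfalso
      cases s <;> simp only [Bool.false_eq_true, ↓reduceIte, one_mul] at hc2
      · exact hout _ _ hk₀T (hkk _ _) hc2
      · refine hout (quarter F * k₀) _ (mul_mem hθT hk₀T) (hkk x.val y.val) ?_
        simpa [mul_assoc] using hc2
  obtain rfl : s = false := by
    cases s
    · rfl
    · exfalso
      simp only [Bool.false_eq_true, ↓reduceIte, mul_one] at hc1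
      exact hout _ _ hk₀T (mul_mem (pow_mem (sigma_mem hkT) _) (pow_mem hkT _)) hc1
  simp only [Bool.false_eq_true, ↓reduceIte, mul_one] at hc1 hc2
  have hx : G2Zorn.sigma k ^ x.val = k ^ x.val := mul_right_cancel (hc1.trans hc2.symm)
  have hx0 : x = 0 := (ZMod.val_eq_zero x).1 (Nat.eq_zero_of_dvd_of_lt ((hgpow _).1 hx) (ZMod.val_lt x))
  subst hx0
  rw [ZMod.val_zero, pow_zero, one_mul] at hc2
  have hy : G2Zorn.sigma k ^ y.val = k ^ y.val := by rw [sigma_pow, hc2, sigma_sc]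
  have hy0 : y = 0 := (ZMod.val_eq_zero y).1 (Nat.eq_zero_of_dvd_of_lt ((hgpow _).1 hy) (ZMod.val_lt y))
  subst hy0
  rfl

/-- Every Sylow 2-subgroup of `G₂(q)`, `q` odd, is a copy of the model. -/
theorem sylow_model (hodd : Odd (Fintype.card F)) (P : Sylow 2 ↥(chevG2.group F)) :
    ∃ a : ℕ, 2 ≤ a ∧ Nonempty (Mdl (2 ^ a) ≃* ↥(P : Subgroup ↥(chevG2.group F))) := by
  classical
  haveI : Fact (Nat.Prime 2) := ⟨Nat.prime_two⟩
  obtain ⟨a, φ, ha, hφ, hle⟩ := exists_embedding hodd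
  have hR : Nat.card φ.range = 2 ^ (2 * a + 2) := by
    rw [← Nat.card_congr (MonoidHom.ofInjective hφ).toEquiv, Mdl.card, ← pow_mul, pow_add, mul_comm a 2]
    ring
  obtain ⟨Q, hQ⟩ := (IsPGroup.of_card hR).exists_le_sylow
  have hv : (Nat.card ↥(chevG2.group F)).factorization 2 = 2 * (Fintype.card F ^ 2 - 1).factorization 2 := by
    rw [card_chevG2]
    set q := Fintype.card F with hq
    have hq2 : 2 ≤ q := Fintype.one_lt_card
    have hne : q ^ 2 - 1 ≠ 0 := by
      have : 2 ^ 2 ≤ q ^ 2 := Nat.pow_le_pow_left hq2 2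
      omega
    have e : q ^ 6 - 1 = (q ^ 2 - 1) * (q ^ 4 + q ^ 2 + 1) := by
      obtain ⟨k, hk⟩ : ∃ k, q ^ 2 = k + 1 := ⟨q ^ 2 - 1, by omega⟩
      rw [show q ^ 6 = (q ^ 2) ^ 3 by ring, show q ^ 4 = (q ^ 2) ^ 2 by ring, hk, Nat.add_sub_cancel,
        show (k + 1) ^ 3 = k * ((k + 1) ^ 2 + (k + 1) + 1) + 1 by ring, Nat.add_sub_cancel]
    have ho : ∀ n : ℕ, Odd n → n.factorization 2 = 0 := fun n hn =>
      Nat.factorization_eq_zero_of_not_dvd (by rw [← even_iff_two_dvd, Nat.not_even_iff_odd]; exact hn)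
    rw [e, Nat.factorization_mul (by positivity) (Nat.mul_ne_zero hne (Nat.mul_ne_zero hne (by positivity))),
      Nat.factorization_mul hne (Nat.mul_ne_zero hne (by positivity)),
      Nat.factorization_mul hne (by positivity), Finsupp.add_apply, Finsupp.add_apply, Finsupp.add_apply,
      ho _ hodd.pow, ho _ ((hodd.pow.add_odd hodd.pow).add_one)]
    omega
  have hQR : φ.range = (Q : Subgroup ↥(chevG2.group F)) := by
    refine Subgroup.eq_of_le_of_card_ge hQ ?_
    rw [Q.card_eq_multiplicity, hv, hR]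
    exact Nat.pow_le_pow_right (by norm_num) (by omega)
  exact ⟨a, ha, ⟨((MonoidHom.ofInjective hφ).trans (MulEquiv.subgroupCongr hQR)).trans (Q.equiv P)⟩⟩

end Cfsg.Lib.GTwoType.SylTwo
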