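import Cfsg.Agent.GTwoType.Model
import Cfsg.Agent.Components.Misc.ExtremalTransfer
import Cfsg.Agent.InvolCalc.ZStarApps
import Cfsg.Agent.InvolCalc.Classes
import Cfsg.Agent.TwoFusion.FusionTools

/-!
# Involution fusion in a simple group with Sylow 2-subgroups of type `G₂(q)`
-/

set_option autoImplicit false
set_option linter.unusedSectionVars false
set_option linter.style.haveILetI false

namespace Cfsg.Lib.GTwoType

open Subgroup
open Mdl

universe v

/-- A Sylow 2-subgroup with the given structure. -/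
structure Typed (G : Type v) [Group G] (a : ℕ) where
  S : Sylow 2 G
  e : Mdl (2 ^ a) ≃* ↥(S : Subgroup G)
  two_le : 2 ≤ a

namespace Typed

variable {G : Type v} [Group G] [Finite G] {a : ℕ} (c : Typed G a)

/-- The model inside the group. -/
def ι : Mdl (2 ^ a) →* G := (c.S : Subgroup G).subtype.comp c.e.toMonoidHom

theorem ι_inj : Function.Injective c.ι := Subtype.val_injective.comp c.e.injective

theorem ι_mem (q : Mdl (2 ^ a)) : c.ι q ∈ (c.S : Subgroup G) := (c.e q).2

theorem exists_ι {g : G} (hg : g ∈ (c.S : Subgroup G)) : ∃ q, c.ι q = g :=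
  ⟨c.e.symm ⟨g, hg⟩, congrArg Subtype.val (c.e.apply_symm_apply ⟨g, hg⟩)⟩

theorem conj_ι {g w q : Mdl (2 ^ a)} (h : g * w * g⁻¹ = q) : IsConj (c.ι w) (c.ι q) :=
  isConj_iff.2 ⟨c.ι g, by rw [← map_inv, ← map_mul, ← map_mul, h]⟩

theorem inv_pre {q : Mdl (2 ^ a)} (h : orderOf (c.ι q) = 2) : q * q = 1 ∧ q ≠ 1 := by
  refine ⟨c.ι_inj ?_, fun e => ?_⟩
  · have := pow_orderOf_eq_one (c.ι q)
    rw [h] at this
    rwa [map_mul, map_one, ← pow_two]
  · rw [e, map_one, orderOf_one] at h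
    norm_num at h

theorem order_ι {q : Mdl (2 ^ a)} (h : q * q = 1) (h1 : q ≠ 1) : orderOf (c.ι q) = 2 :=
  orderOf_eq_prime (by rw [pow_two, ← map_mul, h, map_one]) fun e => h1 (c.ι_inj (e.trans (map_one _).symm))

theorem isConj_class {q : Mdl (2 ^ a)} (h : q * q = 1) (h1 : q ≠ 1) :
    ∃ w ∈ ({t a, u a, r (2 ^ a), r' (2 ^ a), iv (2 ^ a) 0 0, iv (2 ^ a) 1 0, iv (2 ^ a) 1 1} : Set (Mdl (2 ^ a))),
      IsConj (c.ι w) (c.ι q) := by
  obtain ⟨w, hw, g, hg⟩ := Mdl.classes (by have := c.two_le; omega) h h1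
  exact ⟨w, hw, c.conj_ι hg⟩

theorem u_conj_u' : IsConj (c.ι (u a)) (c.ι (u' a)) :=
  c.conj_ι (g := r (2 ^ a)) (by rw [conj_eq_iff]; ext <;> simp [mul_def, ax, sg])

theorem exists_conj_cent {y : G} (hy : IsConj y (c.ι (t a))) :
    ∃ g : G, g * y * g⁻¹ = c.ι (t a) ∧ ∀ q ∈ (c.S : Subgroup G), Commute q y → g * q * g⁻¹ ∈ (c.S : Subgroup G) := by
  have ha : 1 ≤ a := by have := c.two_le; omega
  obtain ⟨g, hg⟩ := isConj_iff.1 hy
  set X : Subgroup G := (((c.S : Subgroup G) ⊓ centralizer ({y} : Set G))).map (MulAut.conj g).toMonoidHom with hX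
  have hXH : X ≤ centralizer ({c.ι (t a)} : Set G) := by
    rintro _ ⟨q, hq, rfl⟩
    rw [mem_centralizer_singleton_iff]
    show g * q * g⁻¹ * c.ι (t a) = c.ι (t a) * (g * q * g⁻¹)
    have h := mem_centralizer_singleton_iff.1 hq.2
    rw [← hg]
    calc g * q * g⁻¹ * (g * y * g⁻¹) = g * (q * y) * g⁻¹ := by group
      _ = g * (y * q) * g⁻¹ := by rw [h]
      _ = _ := by group
  have hSH : (c.S : Subgroup G) ≤ centralizer ({c.ι (t a)} : Set G) := fun q hq => by
    obtain ⟨q, rfl⟩ := c.exists_ι hq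
    rw [mem_centralizer_singleton_iff, ← map_mul, ← map_mul, t_central ha]
  obtain ⟨k, hk, hkS⟩ := Cfsg.Lib.TwoFusion.exists_sylow_conj c.S hSH
    ((c.S.2.to_le inf_le_left).map (MulAut.conj g).toMonoidHom) hXH
  refine ⟨k * g, ?_, fun q hq hc => ?_⟩
  · have h := mem_centralizer_singleton_iff.1 hk
    calc k * g * y * (k * g)⁻¹ = k * (g * y * g⁻¹) * k⁻¹ := by group
      _ = _ := by rw [hg, h, mul_inv_cancel_right]
  · have h := hkS (g * q * g⁻¹) ⟨q, ⟨hq, mem_centralizer_singleton_iff.2 hc.eq⟩, rfl⟩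
    simpa [mul_assoc] using h

/-- The involutions of the homocyclic part are conjugate. -/
theorem t_conj_u [IsSimpleGroup G] (hG : ¬ IsMulCommutative G) : IsConj (c.ι (t a)) (c.ι (u a)) := by
  classical
  have ha : 1 ≤ a := by have := c.two_le; omega
  by_contra hu
  have hu' : ¬ IsConj (c.ι (t a)) (c.ι (u' a)) := fun h => hu (h.trans c.u_conj_u'.symm)
  have ht : t a * t a = 1 := by ext <;> simp [mul_def, one_def, ax, sg, hf_add ha]
  have ht1 : t a ≠ 1 := fun h => hf_ne ha (congrArg Mdl.x h)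
  have hto := c.order_ι ht ht1
  -- a conjugate in the Sylow subgroup with `t` as a square in its centraliser is `t`
  have hsquare : ∀ w ∈ ({r (2 ^ a), r' (2 ^ a), iv (2 ^ a) 0 0, iv (2 ^ a) 1 1} : Set (Mdl (2 ^ a))),
      ¬ IsConj (c.ι w) (c.ι (t a)) := by
    intro w hw hc
    obtain ⟨q, hq, hqq⟩ := square_cent c.two_le w hw
    obtain ⟨g, hg, hgS⟩ := c.exists_conj_cent hc
    obtain ⟨q', hq'⟩ := c.exists_ι (hgS _ (c.ι_mem q) (show Commute (c.ι q) (c.ι w) from by
      rw [commute_iff_eq, ← map_mul, ← map_mul, hq]))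
    have himg : c.ι (q' * q') = g * c.ι (t a) * g⁻¹ := by
      rw [map_mul, hq', ← hqq, map_mul]; group
    have ho : orderOf (c.ι (q' * q')) = 2 := by
      rw [himg, ← MulAut.conj_apply, MulEquiv.orderOf_eq, hto]
    obtain ⟨h1, h2⟩ := c.inv_pre ho
    have hcj : IsConj (c.ι (t a)) (c.ι (q' * q')) := isConj_iff.2 ⟨g, himg.symm⟩
    rcases square_inv ha q' h2 h1 with e | e | e
    · have : g * c.ι (t a) * g⁻¹ = g * c.ι w * g⁻¹ := by rw [← himg, e, hg]
      have h := c.ι_inj (mul_left_cancel (mul_right_cancel this))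
      subst h
      simp [mul_def, ax, sg] at hw
    · exact hu (e ▸ hcj)
    · exact hu' (e ▸ hcj)
  -- the remaining class
  have hclass : ∀ q : Mdl (2 ^ a), IsConj (c.ι (t a)) (c.ι q) → q = t a ∨ IsConj (c.ι (iv (2 ^ a) 1 0)) (c.ι q) := by
    intro q hq
    obtain ⟨g, hg⟩ := isConj_iff.1 hq
    have ho : orderOf (c.ι q) = 2 := by rw [← hg, ← MulAut.conj_apply, MulEquiv.orderOf_eq, hto]
    obtain ⟨h1, h2⟩ := c.inv_pre ho
    obtain ⟨w, g', hg'⟩ : ∃ w, ∃ g' : Mdl (2 ^ a), w ∈ ({t a, u a, r (2 ^ a), r' (2 ^ a), iv (2 ^ a) 0 0,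
        iv (2 ^ a) 1 0, iv (2 ^ a) 1 1} : Set (Mdl (2 ^ a))) ∧ g' * w * g'⁻¹ = q := by
      obtain ⟨w, hw, g', hg'⟩ := Mdl.classes ha h1 h2
      exact ⟨w, g', hw, hg'⟩
    have hcw : IsConj (c.ι w) (c.ι (t a)) := (c.conj_ι hg'.2).trans hq.symm
    have hw := hg'.1
    simp only [Set.mem_insert_iff, Set.mem_singleton_iff] at hw
    rcases hw with rfl | rfl | rfl | rfl | rfl | rfl | rfl
    · left
      rw [← hg'.2, t_central ha, mul_inv_cancel_right]
    · exact absurd hcw.symm hu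
    · exact absurd hcw (hsquare _ (by simp))
    · exact absurd hcw (hsquare _ (by simp))
    · exact absurd hcw (hsquare _ (by simp))
    · exact Or.inr (c.conj_ι hg'.2)
    · exact absurd hcw (hsquare _ (by simp))
  -- `t` is isolated
  have hiso : ∀ g : G, g * c.ι (t a) * g⁻¹ ∈ (c.S : Subgroup G) → g * c.ι (t a) * g⁻¹ = c.ι (t a) := by
    intro g hg
    obtain ⟨q, hq⟩ := c.exists_ι hg
    rcases hclass q (isConj_iff.2 ⟨g, hq.symm⟩) with rfl | h
    · exact hq.symm
    exfalso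
    set x := iv (2 ^ a) 1 0
    have hxt : IsConj (c.ι x) (c.ι (t a)) := h.trans (hq ▸ (isConj_iff.2 ⟨g, rfl⟩ : IsConj (c.ι (t a)) _).symm)
    obtain ⟨k, hk, hkS⟩ := c.exists_conj_cent hxt
    have hV : ∀ v ∈ ({t a, u a, u' a} : Set (Mdl (2 ^ a))), v * x = x * v := by
      intro v hv
      simp only [Set.mem_insert_iff, Set.mem_singleton_iff] at hv
      rcases hv with rfl | rfl | rfl <;> ext <;> simp [x, mul_def, ax, sg, hf_neg ha, add_comm]
    have hpre : ∀ v ∈ ({t a, u a, u' a} : Set (Mdl (2 ^ a))), ∃ v', c.ι v' = k * c.ι v * k⁻¹ := fun v hv =>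
      c.exists_ι (hkS _ (c.ι_mem v) (by rw [commute_iff_eq, ← map_mul, ← map_mul, hV v hv]))
    obtain ⟨t', ht'⟩ := hpre (t a) (by simp)
    obtain ⟨u₁, hu₁⟩ := hpre (u a) (by simp)
    obtain ⟨u₂, hu₂⟩ := hpre (u' a) (by simp)
    have hxne : x ≠ t a := fun e => Bool.false_ne_true (congrArg Mdl.e e).symm
    -- the image of `t` is an odd inversion, up to conjugation
    obtain ⟨m, hm⟩ : ∃ m : Mdl (2 ^ a), m * x * m⁻¹ = t' := by
      rcases hclass t' (isConj_iff.2 ⟨k, ht'.symm⟩) with e | e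
      · subst e
        exact absurd (c.ι_inj (mul_left_cancel (mul_right_cancel (hk.trans ht')))) hxne
      · obtain ⟨w, hw, m, hm⟩ : ∃ w ∈ ({t a, u a, r (2 ^ a), r' (2 ^ a), iv (2 ^ a) 0 0, iv (2 ^ a) 1 0,
            iv (2 ^ a) 1 1} : Set (Mdl (2 ^ a))), ∃ m, m * w * m⁻¹ = t' := by
          have ho : orderOf (c.ι t') = 2 := by rw [ht', ← MulAut.conj_apply, MulEquiv.orderOf_eq, hto]
          exact Mdl.classes ha (c.inv_pre ho).1 (c.inv_pre ho).2
        have hcw : IsConj (c.ι w) (c.ι (t a)) := ((c.conj_ι hm).trans e.symm).trans hxt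
        simp only [Set.mem_insert_iff, Set.mem_singleton_iff] at hw
        rcases hw with rfl | rfl | rfl | rfl | rfl | rfl | rfl
        · rw [t_central ha, mul_inv_cancel_right] at hm
          subst hm
          exact absurd (c.ι_inj (mul_left_cancel (mul_right_cancel (hk.trans ht')))) hxne
        · exact absurd hcw.symm hu
        · exact absurd hcw (hsquare _ (by simp))
        · exact absurd hcw (hsquare _ (by simp))
        · exact absurd hcw (hsquare _ (by simp))
        · exact ⟨m, hm⟩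
        · exact absurd hcw (hsquare _ (by simp))
    -- the images of the other two involutions stay among themselves
    have key : ∀ v ∈ ({u a, u' a} : Set (Mdl (2 ^ a))), ∀ v', c.ι v' = k * c.ι v * k⁻¹ →
        m⁻¹ * v' * m = u a ∨ m⁻¹ * v' * m = u' a := by
      intro v hv v' hv'
      have hv3 : v ∈ ({t a, u a, u' a} : Set (Mdl (2 ^ a))) := Or.inr hv
      have hcomm : v' * t' = t' * v' := c.ι_inj (by
        have hv0 : v * t a = t a * v := t_central ha v
        rw [map_mul, map_mul, hv', ht']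
        calc k * c.ι v * k⁻¹ * (k * c.ι (t a) * k⁻¹) = k * (c.ι v * c.ι (t a)) * k⁻¹ := by group
          _ = k * (c.ι (t a) * c.ι v) * k⁻¹ := by rw [← map_mul, hv0, map_mul]
          _ = _ := by group)
      have hc : (m⁻¹ * v' * m) * x = x * (m⁻¹ * v' * m) := by
        rw [← hm] at hcomm
        calc m⁻¹ * v' * m * x = m⁻¹ * (v' * (m * x * m⁻¹)) * m := by group
          _ = m⁻¹ * ((m * x * m⁻¹) * v') * m := by rw [hcomm]
          _ = _ := by group
      have hcv : IsConj (c.ι v) (c.ι (m⁻¹ * v' * m)) :=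
        ((isConj_iff.2 ⟨k, hv'.symm⟩ : IsConj (c.ι v) (c.ι v'))).trans (c.conj_ι (g := m⁻¹) (by group))
      have hvt : ¬ IsConj (c.ι (t a)) (c.ι v) := by
        rcases hv with rfl | rfl
        · exact hu
        · exact hu'
      rcases cent_odd c.two_le _ hc with e | e | e | e | ⟨l, e⟩
      · rw [e, map_one] at hcv
        have : v = 1 := c.ι_inj (by rw [isConj_one_left.1 hcv, map_one])
        rcases hv with rfl | rfl
        · exact absurd (congrArg Mdl.x this) (hf_ne ha)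
        · exact absurd (congrArg Mdl.y this) (hf_ne ha)
      · exact absurd (e ▸ hcv).symm hvt
      · exact Or.inl e
      · exact Or.inr e
      · exact absurd ((hxt.symm.trans (c.conj_ι e)).trans hcv.symm) hvt
    have k1 := key (u a) (by simp) u₁ hu₁
    have k2 := key (u' a) (by simp) u₂ hu₂
    have hne : u a ≠ u' a := fun e => hf_ne ha (congrArg Mdl.x e)
    have hne' : m⁻¹ * u₁ * m ≠ m⁻¹ * u₂ * m := fun e => by
      have e' := congrArg c.ι (mul_left_cancel (mul_right_cancel e))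
      rw [hu₁, hu₂] at e'
      exact hne (c.ι_inj (mul_left_cancel (mul_right_cancel e')))
    have hprod : u a * u' a = t a ∧ u' a * u a = t a := by
      constructor <;> ext <;> simp [mul_def, ax, sg]
    have hu12 : m⁻¹ * (u₁ * u₂) * m = t a := by
      rw [show m⁻¹ * (u₁ * u₂) * m = (m⁻¹ * u₁ * m) * (m⁻¹ * u₂ * m) by group]
      rcases k1 with e1 | e1 <;> rcases k2 with e2 | e2
      · exact absurd (e1.trans e2.symm) hne'
      · rw [e1, e2, hprod.1]
      · rw [e1, e2, hprod.2]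
      · exact absurd (e1.trans e2.symm) hne'
    have ht'' : t' = u₁ * u₂ := c.ι_inj (by
      rw [map_mul, hu₁, hu₂, ht', ← hprod.1, map_mul]; group)
    rw [← ht'', ← hm] at hu12
    have : x = t a := by rw [← hu12]; group
    exact hxne this
  have hzi : Cfsg.IsIsolatedInvolution (c.ι (t a)) :=
    ⟨hto, fun g => Cfsg.Lib.InvolCalc.isolated_of_unique c.S hto hiso⟩
  have hbot : Cfsg.pPrimeCore 2 G = ⊥ := by
    rcases IsSimpleGroup.eq_bot_or_eq_top_of_normal (Cfsg.pPrimeCore 2 G) inferInstance with h | h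
    · exact h
    · exfalso
      have hodd := Cfsg.Lib.ZStarApps.odd_card_pPrimeCore (G := G)
      rw [h, Subgroup.card_top] at hodd
      exact Nat.not_even_iff_odd.2 hodd (even_iff_two_dvd.2 (hto ▸ orderOf_dvd_natCard _))
  have hcen : c.ι (t a) ∈ center G := Subgroup.mem_center_iff.2 fun g => by
    have h := Cfsg.Lib.ZStarApps.zstarProp hzi g
    rw [hbot, mem_bot, mul_inv_eq_one, mul_inv_eq_iff_eq_mul] at h
    exact h.symm
  rcases IsSimpleGroup.eq_bot_or_eq_top_of_normal (center G) inferInstance with h | h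
  · rw [h, mem_bot] at hcen
    rw [hcen, orderOf_one] at hto
    norm_num at hto
  · exact hG ⟨⟨fun x y => Subgroup.mem_center_iff.1 (h ▸ mem_top y) x⟩⟩

/-- Transfer out of a maximal subgroup of the Sylow subgroup. -/
theorem fused [IsSimpleGroup G] (hG : ¬ IsMulCommutative G) (f : Mdl (2 ^ a) → Bool)
    (hf : ∀ g k, f (g * k) = xor (f g) (f k)) {y : Mdl (2 ^ a)} (hy : y * y = 1) (hy1 : f y = true) :
    ∃ w : Mdl (2 ^ a), w * w = 1 ∧ w ≠ 1 ∧ f w = false ∧ IsConj (c.ι y) (c.ι w) ∧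
      ∀ q, q * y = y * q → ∃ q', q' * w = w * q' ∧ (q' ^ 4 = 1 → q ^ 4 = 1) := by
  classical
  have hf1 : f 1 = false := by
    have h := hf 1 1
    rw [one_mul] at h
    cases hh : f 1 <;> simp_all
  let χ : Mdl (2 ^ a) →* Multiplicative (ZMod 2) :=
    MonoidHom.mk' (fun g => Multiplicative.ofAdd (if f g then 1 else 0)) fun g k => by
      simp only [hf g k, ← ofAdd_add]
      cases f g <;> cases f k <;> simp <;> decide
  let φ : ↥(c.S : Subgroup G) →* Multiplicative (ZMod 2) := χ.comp c.e.symm.toMonoidHom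
  let T := φ.ker.map (c.S : Subgroup G).subtype
  have hTS : T ≤ (c.S : Subgroup G) := Subgroup.map_subtype_le _
  have hT : T.subgroupOf (c.S : Subgroup G) = φ.ker :=
    comap_map_eq_self_of_injective (c.S : Subgroup G).subtype_injective _
  haveI : (T.subgroupOf (c.S : Subgroup G)).Normal := by rw [hT]; infer_instance
  have hcyc : IsCyclic (↥(c.S : Subgroup G) ⧸ T.subgroupOf (c.S : Subgroup G)) :=
    isCyclic_of_injective ((QuotientGroup.kerLift φ).comp (QuotientGroup.quotientMulEquivOfEq hT).toMonoidHom)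
      ((QuotientGroup.kerLift_injective φ).comp (MulEquiv.injective _))
  have hperf : commutator G = ⊤ := by
    rcases IsSimpleGroup.eq_bot_or_eq_top_of_normal (commutator G) inferInstance with h | h
    · exact absurd ⟨⟨fun x z => commutatorElement_eq_one_iff_mul_comm.1
        (mem_bot.1 (h ▸ commutator_mem_commutator (mem_top x) (mem_top z)))⟩⟩ hG
    · exact h
  have hmemT : ∀ q, c.ι q ∈ T ↔ f q = false := by
    intro q
    show ((c.e q : ↥(c.S : Subgroup G)) : G) ∈ T ↔ _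
    rw [← mem_subgroupOf, hT, MonoidHom.mem_ker]
    simp only [φ, χ, MonoidHom.comp_apply, MulEquiv.coe_toMonoidHom, MulEquiv.symm_apply_apply, MonoidHom.mk'_apply]
    cases f q <;> simp
  have hy2 : y ≠ 1 := fun e => by rw [e, hf1] at hy1; exact Bool.false_ne_true hy1
  have ho := c.order_ι hy hy2
  obtain ⟨g, hgT, -, hle⟩ := Cfsg.Lib.Misc.ExtremalTransfer.extremal c.S T hTS hcyc hperf _ ho (c.ι_mem y)
    (fun h => by rw [(hmemT y).1 h] at hy1; exact Bool.false_ne_true hy1)
  obtain ⟨w, hw⟩ := c.exists_ι (hTS hgT)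
  have how : orderOf (c.ι w) = 2 := by rw [hw, ← MulAut.conj_apply, MulEquiv.orderOf_eq, ho]
  refine ⟨w, (c.inv_pre how).1, (c.inv_pre how).2, (hmemT w).1 (hw ▸ hgT), isConj_iff.2 ⟨g, hw.symm⟩, fun q hq => ?_⟩
  have h := hle ⟨c.ι q, ⟨c.ι_mem q, mem_centralizer_singleton_iff.2 (by rw [← map_mul, ← map_mul, hq])⟩, rfl⟩
  obtain ⟨q', hq'⟩ := c.exists_ι h.1
  change c.ι q' = g * c.ι q * g⁻¹ at hq'
  have h2 := mem_centralizer_singleton_iff.1 h.2
  refine ⟨q', c.ι_inj ?_, fun e => c.ι_inj ?_⟩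
  · rw [map_mul, map_mul, hq', hw]; exact h2
  · have e' := congrArg c.ι e
    rw [map_pow, hq', map_one, conj_pow, conj_eq_one_iff] at e'
    rw [map_pow, e', map_one]

/-- One class of involutions, or a Sylow subgroup of order 64 and two classes. -/
theorem classes_main [IsSimpleGroup G] (hG : ¬ IsMulCommutative G) :
    (∀ x y : G, orderOf x = 2 → orderOf y = 2 → IsConj x y) ∨
      (Nat.card ↥(c.S : Subgroup G) = 64 ∧ ∃ x y : G, orderOf x = 2 ∧ orderOf y = 2 ∧ ¬ IsConj x y ∧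
        ∀ z : G, orderOf z = 2 → IsConj z x ∨ IsConj z y) := by
  classical
  have ha : 1 ≤ a := by have := c.two_le; omega
  set T := c.ι (t a)
  set R := c.ι (r (2 ^ a))
  have hu := c.t_conj_u hG
  have hr2 : r (2 ^ a) * r (2 ^ a) = 1 := by ext <;> simp [mul_def, one_def, ax, sg]
  have hr'2 : r' (2 ^ a) * r' (2 ^ a) = 1 := by ext <;> simp [mul_def, one_def, ax, sg]
  have hiv2 : ∀ x y, iv (2 ^ a) x y * iv (2 ^ a) x y = 1 := fun x y => by
    ext <;> simp [mul_def, one_def, ax, sg]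
  -- the homocyclic part and one kind of outer involution
  have hin : ∀ {w : Mdl (2 ^ a)}, w * w = 1 → w ≠ 1 → w.s = false → w.e = false → IsConj T (c.ι w) := by
    intro w h h1 hs he
    obtain ⟨x, y, s, e⟩ := w
    obtain ⟨rfl, rfl⟩ : s = false ∧ e = false := ⟨hs, he⟩
    simp [mul_def, one_def, ax, sg] at h h1
    rcases two_eq_zero ha h.1 with rfl | rfl <;> rcases two_eq_zero ha h.2 with rfl | rfl
    · exact absurd rfl (h1 rfl)
    · exact hu.trans c.u_conj_u'
    · exact hu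
    · exact IsConj.refl _
  have hcls : ∀ {w : Mdl (2 ^ a)}, w * w = 1 → w.s = true →
      (w.e = false → IsConj R (c.ι w)) ∧ (w.e = true → IsConj (c.ι (r' (2 ^ a))) (c.ι w)) := by
    intro w h hs
    obtain ⟨w', hw', g, hg⟩ := Mdl.classes ha h (fun e => by rw [e] at hs; exact Bool.false_ne_true hs)
    have hbit : w'.s = w.s ∧ w'.e = w.e := by
      rw [← hg]
      simp [mul_def, inv_def]
      constructor <;> (cases g.s <;> cases g.e <;> cases w'.s <;> cases w'.e <;> rfl)
    simp only [Set.mem_insert_iff, Set.mem_singleton_iff] at hw'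
    rcases hw' with rfl | rfl | rfl | rfl | rfl | rfl | rfl <;> simp [hs] at hbit
    · exact ⟨fun _ => c.conj_ι hg, fun he => by rw [he] at hbit; exact absurd hbit (by decide)⟩
    · exact ⟨fun he => by rw [he] at hbit; exact absurd hbit.symm (by decide), fun _ => c.conj_ι hg⟩
  have hr' : IsConj T (c.ι (r' (2 ^ a))) ∨ IsConj R (c.ι (r' (2 ^ a))) := by
    obtain ⟨w, h, h1, hf, hw, -⟩ := c.fused hG (fun g => g.e) (fun g k => rfl) hr'2 rfl
    cases hs : w.s
    · exact Or.inl ((hin h h1 hs hf).trans hw.symm)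
    · exact Or.inr (((hcls h hs).1 hf).trans hw.symm)
  have hiv : ∀ x y, IsConj T (c.ι (iv (2 ^ a) x y)) ∨ IsConj R (c.ι (iv (2 ^ a) x y)) := by
    intro x y
    obtain ⟨w, h, h1, hf, hw, -⟩ := c.fused hG (fun g => g.e) (fun g k => rfl) (hiv2 x y) rfl
    cases hs : w.s
    · exact Or.inl ((hin h h1 hs hf).trans hw.symm)
    · exact Or.inr (((hcls h hs).1 hf).trans hw.symm)
  have hall : ∀ z : G, orderOf z = 2 → IsConj T z ∨ IsConj R z := by
    intro z hz
    obtain ⟨g, hg⟩ := Cfsg.Lib.TwoFusion.exists_conj_mem_sylow c.S (x := z) (k := 1) (by rw [hz, pow_one])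
    obtain ⟨q, hq⟩ := c.exists_ι hg
    have hzq : IsConj z (c.ι q) := isConj_iff.2 ⟨g, hq.symm⟩
    have ho : orderOf (c.ι q) = 2 := by rw [hq, ← MulAut.conj_apply, MulEquiv.orderOf_eq, hz]
    obtain ⟨w, hw, hwq⟩ := c.isConj_class (c.inv_pre ho).1 (c.inv_pre ho).2
    have hwz : IsConj (c.ι w) z := hwq.trans hzq.symm
    simp only [Set.mem_insert_iff, Set.mem_singleton_iff] at hw
    rcases hw with rfl | rfl | rfl | rfl | rfl | rfl | rfl
    · exact Or.inl hwz
    · exact Or.inl (hu.trans hwz)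
    · exact Or.inr hwz
    · exact hr'.imp (·.trans hwz) (·.trans hwz)
    · exact (hiv 0 0).imp (·.trans hwz) (·.trans hwz)
    · exact (hiv 1 0).imp (·.trans hwz) (·.trans hwz)
    · exact (hiv 1 1).imp (·.trans hwz) (·.trans hwz)
  by_cases hTR : IsConj T R
  · left
    intro x y hx hy
    have h : ∀ z : G, orderOf z = 2 → IsConj T z := fun z hz => (hall z hz).elim id hTR.trans
    exact (h x hx).symm.trans (h y hy)
  right
  obtain rfl : a = 2 := by
    by_contra hne
    have h3 : 3 ≤ a := by have := c.two_le; omega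
    obtain ⟨w, h, h1, hf, hw, hq⟩ := c.fused hG (fun g => g.s) (fun g k => rfl) hr2 rfl
    cases he : w.e
    · exact hTR ((hin h h1 hf he).trans hw.symm)
    · obtain ⟨q', hq', himp⟩ := hq ⟨1, 1, false, false⟩ (by ext <;> simp [mul_def, ax, sg])
      obtain ⟨x, y, s, e⟩ := w
      obtain ⟨rfl, rfl⟩ : s = false ∧ e = true := ⟨hf, he⟩
      have h4 := himp (by
        have := cent_inversion x y q' hq'
        rw [show q' ^ 4 = q' * q' * (q' * q') by simp [pow_succ, mul_assoc]]; exact this)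
      have h4x := congrArg Mdl.x h4
      simp [pow_succ, mul_def, one_def, ax, sg] at h4x
      have h4' : ((4 : ℕ) : ZMod (2 ^ a)) = 0 := by push_cast; linear_combination h4x
      rw [ZMod.natCast_eq_zero_iff] at h4'
      have := Nat.le_of_dvd (by norm_num) h4'
      have : 2 ^ 3 ≤ 2 ^ a := Nat.pow_le_pow_right (by norm_num) h3
      omega
  refine ⟨?_, T, R, c.order_ι ?_ ?_, c.order_ι hr2 ?_, hTR, fun z hz => (hall z hz).imp IsConj.symm IsConj.symm⟩
  · rw [← Nat.card_congr c.e.toEquiv, Mdl.card]; norm_num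
  · ext <;> simp [mul_def, one_def, ax, sg, hf_add ha]
  · exact fun h => hf_ne ha (congrArg Mdl.x h)
  · exact fun h => Bool.false_ne_true (congrArg Mdl.s h).symm

end Typed

end Cfsg.Lib.GTwoType
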