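import Mathlib

/-!
# A two-group of type `G₂(q)`: a homocyclic group of rank two extended by a four-group

The four-group is generated by the exchange of the two coordinates and the inversion.
-/

set_option autoImplicit false
set_option linter.style.haveILetI false
set_option linter.unnecessarySeqFocus false
set_option linter.unreachableTactic false
set_option linter.unusedTactic false

namespace Cfsg.Lib.GTwoType

/-- An element: two coordinates, the exchange bit and the inversion bit. -/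
@[ext] structure Mdl (n : ℕ) where
  x : ZMod n
  y : ZMod n
  s : Bool
  e : Bool
deriving DecidableEq

namespace Mdl

variable {n : ℕ}

/-- The sign of the inversion bit. -/
def sg (e : Bool) (x : ZMod n) : ZMod n := if e then -x else x

/-- The first coordinate after the action. -/
def ax (g : Mdl n) (x y : ZMod n) : ZMod n := sg g.e (if g.s then y else x)

instance : Mul (Mdl n) :=
  ⟨fun g k => ⟨g.x + ax g k.x k.y, g.y + ax g k.y k.x, xor g.s k.s, xor g.e k.e⟩⟩

instance : One (Mdl n) := ⟨⟨0, 0, false, false⟩⟩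

instance : Inv (Mdl n) := ⟨fun g => ⟨-ax g g.x g.y, -ax g g.y g.x, g.s, g.e⟩⟩

theorem mul_def (g k : Mdl n) :
    g * k = ⟨g.x + ax g k.x k.y, g.y + ax g k.y k.x, xor g.s k.s, xor g.e k.e⟩ := rfl

theorem one_def : (1 : Mdl n) = ⟨0, 0, false, false⟩ := rfl

theorem inv_def (g : Mdl n) : g⁻¹ = ⟨-ax g g.x g.y, -ax g g.y g.x, g.s, g.e⟩ := rfl

instance : Group (Mdl n) where
  mul_assoc := by
    rintro ⟨a, b, s, e⟩ ⟨a', b', s', e'⟩ ⟨a'', b'', s'', e''⟩
    cases s <;> cases e <;> cases s' <;> cases e' <;>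
      ext <;> simp [mul_def, ax, sg] <;> abel
  one_mul := by rintro ⟨a, b, s, e⟩; ext <;> simp [mul_def, one_def, ax, sg]
  mul_one := by rintro ⟨a, b, s, e⟩; cases s <;> cases e <;> ext <;> simp [mul_def, one_def, ax, sg]
  inv_mul_cancel := by
    rintro ⟨a, b, s, e⟩; cases s <;> cases e <;> ext <;> simp [mul_def, one_def, inv_def, ax, sg]

/-- The elements as a product. -/
def equivProd : Mdl n ≃ ZMod n × ZMod n × Bool × Bool where
  toFun g := (g.x, g.y, g.s, g.e)
  invFun p := ⟨p.1, p.2.1, p.2.2.1, p.2.2.2⟩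
  left_inv _ := rfl
  right_inv _ := rfl

instance [NeZero n] : Finite (Mdl n) := Finite.of_equiv _ (equivProd (n := n)).symm

theorem card [NeZero n] : Nat.card (Mdl n) = 4 * n ^ 2 := by
  rw [Nat.card_congr equivProd]
  simp
  ring

theorem conj_eq_iff {g k l : Mdl n} : g * k * g⁻¹ = l ↔ g * k = l * g := mul_inv_eq_iff_eq_mul

section Classes

variable {a : ℕ}

/-- Half the modulus. -/
abbrev hf (a : ℕ) : ZMod (2 ^ a) := (2 : ZMod (2 ^ a)) ^ (a - 1)

/-- The central involution. -/
abbrev t (a : ℕ) : Mdl (2 ^ a) := ⟨hf a, hf a, false, false⟩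
/-- A non-central involution of the homocyclic part. -/
abbrev u (a : ℕ) : Mdl (2 ^ a) := ⟨hf a, 0, false, false⟩
/-- Its conjugate. -/
abbrev u' (a : ℕ) : Mdl (2 ^ a) := ⟨0, hf a, false, false⟩
/-- The exchange. -/
abbrev r (n : ℕ) : Mdl n := ⟨0, 0, true, false⟩
/-- The exchange with inversion. -/
abbrev r' (n : ℕ) : Mdl n := ⟨0, 0, true, true⟩
/-- An inversion. -/
abbrev iv (n : ℕ) (x y : ZMod n) : Mdl n := ⟨x, y, false, true⟩

theorem hf_add (ha : 1 ≤ a) : hf a + hf a = 0 := by
  rw [← two_mul, hf, ← pow_succ', Nat.sub_add_cancel ha]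
  exact_mod_cast ZMod.natCast_self (2 ^ a)

theorem hf_neg (ha : 1 ≤ a) : -hf a = hf a := neg_eq_of_add_eq_zero_left (hf_add ha)

theorem hf_ne (ha : 1 ≤ a) : hf a ≠ 0 := by
  intro h
  have h1 : ((2 ^ (a - 1) : ℕ) : ZMod (2 ^ a)) = 0 := by push_cast; exact h
  rw [ZMod.natCast_eq_zero_iff, Nat.pow_dvd_pow_iff_le_right (by norm_num)] at h1
  omega

theorem two_eq_zero (ha : 1 ≤ a) {x : ZMod (2 ^ a)} (h : x + x = 0) : x = 0 ∨ x = hf a := by
  haveI : NeZero (2 ^ a) := ⟨by positivity⟩
  obtain ⟨b, rfl⟩ : ∃ b, a = b + 1 := ⟨a - 1, by omega⟩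
  have h1 : ((x.val + x.val : ℕ) : ZMod (2 ^ (b + 1))) = 0 := by
    push_cast
    rw [ZMod.natCast_rightInverse x]; exact h
  rw [ZMod.natCast_eq_zero_iff] at h1
  obtain ⟨k, hk⟩ := h1
  have hlt := x.val_lt
  have hp : 2 ^ (b + 1) = 2 * 2 ^ b := pow_succ' 2 b
  have hk2 : k < 2 := by nlinarith [Nat.two_pow_pos b]
  have hx : x = ((x.val : ℕ) : ZMod (2 ^ (b + 1))) := (ZMod.natCast_rightInverse x).symm
  interval_cases k
  · left; rw [hx, show x.val = 0 by omega, Nat.cast_zero]
  · right; rw [hx, show x.val = 2 ^ b by omega]; simp [hf]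

theorem parity (x : ZMod (2 ^ a)) : ∃ z, x = z + z ∨ x = 1 + (z + z) := by
  haveI : NeZero (2 ^ a) := ⟨by positivity⟩
  have hx : x = ((x.val : ℕ) : ZMod (2 ^ a)) := (ZMod.natCast_rightInverse x).symm
  refine ⟨((x.val / 2 : ℕ) : ZMod (2 ^ a)), ?_⟩
  rcases Nat.mod_two_eq_zero_or_one x.val with h | h
  · left; conv_lhs => rw [hx]
    rw [← Nat.cast_add]; congr 1; omega
  · right; conv_lhs => rw [hx]
    rw [← Nat.cast_add, ← Nat.cast_one, ← Nat.cast_add]; congr 1; omega

theorem one_ne_double (ha : 1 ≤ a) (z : ZMod (2 ^ a)) : z + z ≠ 1 := by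
  intro h
  have h1 := congrArg (ZMod.castHom (dvd_pow_self 2 (show a ≠ 0 by omega)) (ZMod 2)) h
  rw [map_add, map_one, CharTwo.add_self_eq_zero] at h1
  exact zero_ne_one h1

theorem even_hf (ha : 2 ≤ a) : ∃ c : ZMod (2 ^ a), c + c = hf a :=
  ⟨2 ^ (a - 2), by rw [← two_mul, ← pow_succ']; congr 1; omega⟩

/-- The involutions up to conjugation. -/
theorem classes (ha : 1 ≤ a) {q : Mdl (2 ^ a)} (hq : q * q = 1) (h1 : q ≠ 1) :
    ∃ w ∈ ({t a, u a, r (2 ^ a), r' (2 ^ a), iv (2 ^ a) 0 0, iv (2 ^ a) 1 0, iv (2 ^ a) 1 1} : Set (Mdl (2 ^ a))),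
      ∃ g : Mdl (2 ^ a), g * w * g⁻¹ = q := by
  obtain ⟨x, y, s, e⟩ := q
  simp only [mul_def, one_def, Mdl.mk.injEq] at hq
  cases s <;> cases e
  · simp [ax, sg] at hq
    rcases two_eq_zero ha hq.1 with rfl | rfl <;> rcases two_eq_zero ha hq.2 with rfl | rfl
    · exact absurd rfl h1
    · exact ⟨u a, by simp, r _, by rw [conj_eq_iff]; ext <;> simp [mul_def, ax, sg]⟩
    · exact ⟨u a, by simp, 1, by simp⟩
    · exact ⟨t a, by simp, 1, by simp⟩
  · -- inversions
    obtain ⟨z, hz⟩ := parity x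
    obtain ⟨w, hw⟩ := parity y
    rcases hz with rfl | rfl <;> rcases hw with rfl | rfl
    · exact ⟨iv _ 0 0, by simp, ⟨z, w, false, false⟩, by
        rw [conj_eq_iff]; ext <;> simp [mul_def, ax, sg] <;> abel⟩
    · exact ⟨iv _ 1 0, by simp, ⟨z, w, true, false⟩, by
        rw [conj_eq_iff]; ext <;> simp [mul_def, ax, sg] <;> abel⟩
    · exact ⟨iv _ 1 0, by simp, ⟨z, w, false, false⟩, by
        rw [conj_eq_iff]; ext <;> simp [mul_def, ax, sg] <;> abel⟩
    · exact ⟨iv _ 1 1, by simp, ⟨z, w, false, false⟩, by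
        rw [conj_eq_iff]; ext <;> simp [mul_def, ax, sg] <;> abel⟩
  · -- the exchange
    simp [ax, sg] at hq
    obtain rfl : y = -x := eq_neg_of_add_eq_zero_right hq.1
    exact ⟨r _, by simp, ⟨x, 0, false, false⟩, by
      rw [conj_eq_iff]; ext <;> simp [mul_def, ax, sg]⟩
  · simp [ax, sg] at hq
    obtain rfl : x = y := eq_of_sub_eq_zero (by linear_combination hq.1)
    exact ⟨r' _, by simp, ⟨x, 0, false, false⟩, by
      rw [conj_eq_iff]; ext <;> simp [mul_def, ax, sg]⟩

theorem t_central (ha : 1 ≤ a) (g : Mdl (2 ^ a)) : g * t a = t a * g := by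
  obtain ⟨x, y, s, e⟩ := g
  cases s <;> cases e <;> ext <;> simp [mul_def, ax, sg, hf_neg ha, add_comm]

/-- An involution which is a square lies in the homocyclic part. -/
theorem square_inv (ha : 1 ≤ a) (g : Mdl (2 ^ a)) (hne : g * g ≠ 1) (hi : (g * g) * (g * g) = 1) :
    g * g = t a ∨ g * g = u a ∨ g * g = u' a := by
  have hs : (g * g).s = false ∧ (g * g).e = false := by simp [mul_def]
  generalize g * g = q at *
  obtain ⟨x, y, s, e⟩ := q
  obtain ⟨rfl, rfl⟩ := hs
  simp [mul_def, one_def, ax, sg] at hi hne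
  rcases two_eq_zero ha hi.1 with rfl | rfl <;> rcases two_eq_zero ha hi.2 with rfl | rfl
  · exact absurd rfl (hne rfl)
  · exact Or.inr (Or.inr rfl)
  · exact Or.inr (Or.inl rfl)
  · exact Or.inl rfl

/-- The central involution is a square in four of the centralisers. -/
theorem square_cent (ha : 2 ≤ a) :
    ∀ w ∈ ({r (2 ^ a), r' (2 ^ a), iv (2 ^ a) 0 0, iv (2 ^ a) 1 1} : Set (Mdl (2 ^ a))),
      ∃ g, g * w = w * g ∧ g * g = t a := by
  obtain ⟨c, hc⟩ := even_hf ha
  have hneg := hf_neg (a := a) (by omega)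
  intro w hw
  simp only [Set.mem_insert_iff, Set.mem_singleton_iff] at hw
  rcases hw with rfl | rfl | rfl | rfl
  · exact ⟨⟨c, c, false, false⟩, by ext <;> simp [mul_def, ax, sg], by ext <;> simp [mul_def, ax, sg, hc]⟩
  · refine ⟨⟨c, -c, false, false⟩, by ext <;> simp [mul_def, ax, sg], ?_⟩
    ext <;> simp [mul_def, ax, sg, hc]
    rw [← neg_add, hc, hneg]
  · exact ⟨⟨hf a, 0, true, false⟩, by ext <;> simp [mul_def, ax, sg, hneg], by ext <;> simp [mul_def, ax, sg]⟩
  · exact ⟨⟨hf a, 0, true, false⟩, by ext <;> simp [mul_def, ax, sg, hneg, add_comm], by ext <;> simp [mul_def, ax, sg]⟩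

/-- The centraliser of an odd inversion. -/
theorem cent_odd (ha : 2 ≤ a) (g : Mdl (2 ^ a)) (hg : g * iv (2 ^ a) 1 0 = iv (2 ^ a) 1 0 * g) :
    g = 1 ∨ g = t a ∨ g = u a ∨ g = u' a ∨ ∃ k : Mdl (2 ^ a), k * iv (2 ^ a) 1 0 * k⁻¹ = g := by
  obtain ⟨c, hc⟩ := even_hf ha
  obtain ⟨x, y, s, e⟩ := g
  cases s <;> cases e <;> simp [mul_def, ax, sg] at hg
  · have hx : x + x = 0 := by linear_combination hg.1
    have hy : y + y = 0 := by linear_combination hg.2
    rcases two_eq_zero (by omega) hx with rfl | rfl <;> rcases two_eq_zero (by omega) hy with rfl | rfl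
    · exact Or.inl rfl
    · exact Or.inr (Or.inr (Or.inr (Or.inl rfl)))
    · exact Or.inr (Or.inr (Or.inl rfl))
    · exact Or.inr (Or.inl rfl)
  · refine Or.inr (Or.inr (Or.inr (Or.inr ?_)))
    have hx : (x - 1) + (x - 1) = 0 := by linear_combination hg.1
    have hy : y + y = 0 := by linear_combination hg.2
    obtain ⟨z, hz⟩ : ∃ z, x = 1 + (z + z) := by
      rcases two_eq_zero (by omega) hx with h | h
      · exact ⟨0, by linear_combination h⟩
      · exact ⟨c, by linear_combination h - hc⟩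
    obtain ⟨w, hw⟩ : ∃ w, y = w + w := by
      rcases two_eq_zero (by omega) hy with h | h
      · exact ⟨0, by linear_combination h⟩
      · exact ⟨c, by linear_combination h - hc⟩
    exact ⟨⟨z, w, false, false⟩, by
      rw [conj_eq_iff]; ext <;> simp [mul_def, ax, sg, hz, hw] <;> abel⟩
  · exact absurd (show (-y) + (-y) = 1 by linear_combination -hg.2) (one_ne_double (by omega) _)
  · exact absurd (show y + y = 1 by linear_combination hg.2) (one_ne_double (by omega) _)

/-- Elements commuting with an inversion have order at most four. -/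
theorem cent_inversion {n : ℕ} (x y : ZMod n) (g : Mdl n) (hg : g * iv n x y = iv n x y * g) :
    (g * g) * (g * g) = 1 := by
  obtain ⟨p, q, s, e⟩ := g
  cases s <;> cases e <;> simp [mul_def, ax, sg] at hg <;>
    ext <;> simp [mul_def, one_def, ax, sg]
  all_goals
    first
      | linear_combination 2 * hg.1
      | linear_combination 2 * hg.2
      | linear_combination hg.1 + hg.2
      | linear_combination -(hg.1 + hg.2)
      | linear_combination hg.1 - hg.2
      | linear_combination hg.2 - hg.1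

end Classes

end Mdl

end Cfsg.Lib.GTwoType
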